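import Cfsg.Agent.Lib.CosetEnum.Pres
set_option autoImplicit false
set_option maxRecDepth 100000
namespace H18.H30C2W
open H54 (Tr force band)
open H18.TC
noncomputable def T_0 : Tr := (.node (nat_lit 0) (.leaf (nat_lit 0x482dc1dc0000000000001f90000482ce19e0000000001bc20800002415e0000be00009e0000000000180002ab28b30d29b26d2fb32b00c0001e816c13c14c1c910e12c00000022718d31b17d27b0fd0de0300001a90ca07f0aa25611c0ed00000006f05f08e04f03f02f01f)) (.leaf (nat_lit 0x182ec00000000000024e0000000482bd21d000000000000000239)))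
noncomputable def J_0 : Tr := (.node (nat_lit 0) (.leaf (nat_lit 0x620c80400400000000000000000000001000008200804004000000000000000000400000000000002000000000800000200200000000000000000000000400020100b020160400408098000300000000000805800010000200000080080001000000000008098000002006000000000810010000000000000001001000000000000000000000000040b80813000000203c04058080701006)) (.leaf (nat_lit 0x6218a00000000000000000000400400000000000004040040000000000000000000000000002)))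
noncomputable def F_0 : Tr := (.node (nat_lit 2) (.node (nat_lit 0) (.leaf (nat_lit 0x4650)) (.node (nat_lit 1) (.leaf (nat_lit 0x4298)) (.leaf (nat_lit 0x2318)))) (.node (nat_lit 4) (.node (nat_lit 3) (.leaf (nat_lit 0x4688)) (.leaf (nat_lit 0x2701))) (.node (nat_lit 5) (.leaf (nat_lit 0x4688)) (.leaf (nat_lit 0x4688)))))
noncomputable def T : Tr := T_0
noncomputable def J : Tr := J_0
noncomputable def F : Tr := F_0
noncomputable def row (u : ℕ) : ℕ := Nat.land (Nat.shiftRight (force (Nat.shiftRight u (nat_lit 3)) T.get) (Nat.mul (Nat.land u (nat_lit 7)) (nat_lit 108))) (nat_lit 0xfffffffffffffffffffffffffff)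
noncomputable def jrow (u : ℕ) : ℕ := Nat.land (Nat.shiftRight (force (Nat.shiftRight u (nat_lit 3)) J.get) (Nat.mul (Nat.land u (nat_lit 7)) (nat_lit 152))) (nat_lit 0xffffffffffffffffffffffffffffffffffffff)
noncomputable def fget (k fx : ℕ) : ℕ := F.get (Nat.add k fx)
noncomputable def wt0 : LT := (.node (nat_lit 2) (.node (nat_lit 0) (.leaf 19 5 [nat_lit 12, nat_lit 48, nat_lit 12, nat_lit 24, nat_lit 0, nat_lit 12, nat_lit 0, nat_lit 24, nat_lit 12, nat_lit 48, nat_lit 12])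
(.node (nat_lit 1) (.leaf 3 0 [nat_lit 72, nat_lit 0, nat_lit 72])
(.leaf 13 0 [nat_lit 48, nat_lit 0, nat_lit 48, nat_lit 0, nat_lit 48, nat_lit 0, nat_lit 48])))
(.leaf 0 0 []))
noncomputable def wt1 : LT := (.node (nat_lit 2) (.node (nat_lit 0) (.leaf 21 11 [nat_lit 0, nat_lit 48, nat_lit 12, nat_lit 24, nat_lit 12, nat_lit 0, nat_lit 12, nat_lit 24, nat_lit 12, nat_lit 48, nat_lit 0])
(.node (nat_lit 1) (.leaf 7 0 [nat_lit 72, nat_lit 12, nat_lit 72])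
(.leaf 23 9 [nat_lit 24, nat_lit 12, nat_lit 0, nat_lit 48, nat_lit 12, nat_lit 48, nat_lit 12, nat_lit 48, nat_lit 24, nat_lit 0, nat_lit 24])))
(.leaf 0 0 []))
noncomputable def wt2 : LT := (.node (nat_lit 0) (.leaf 15 6 [nat_lit 72, nat_lit 48, nat_lit 12, nat_lit 0, nat_lit 24, nat_lit 72, nat_lit 48, nat_lit 12, nat_lit 0])
(.leaf 0 0 []))
noncomputable def wt3 : LT := (.node (nat_lit 1) (.node (nat_lit 0) (.leaf 27 10 [nat_lit 12, nat_lit 0, nat_lit 12, nat_lit 0, nat_lit 12, nat_lit 48, nat_lit 12, nat_lit 48, nat_lit 36, nat_lit 48, nat_lit 12, nat_lit 48, nat_lit 0])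
(.leaf 1 9 [nat_lit 24, nat_lit 12, nat_lit 0, nat_lit 60, nat_lit 48, nat_lit 60, nat_lit 36, nat_lit 48, nat_lit 0, nat_lit 12, nat_lit 24]))
(.leaf 0 0 []))
noncomputable def wt4 : LT := (.node (nat_lit 1) (.node (nat_lit 0) (.leaf 23 3 [nat_lit 12, nat_lit 48, nat_lit 24, nat_lit 0, nat_lit 24, nat_lit 12, nat_lit 24, nat_lit 12, nat_lit 0, nat_lit 48, nat_lit 12])
(.leaf 19 7 [nat_lit 12, nat_lit 24, nat_lit 0, nat_lit 12, nat_lit 0, nat_lit 24, nat_lit 12, nat_lit 48, nat_lit 12, nat_lit 0, nat_lit 12]))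
(.leaf 0 0 []))
noncomputable def wt5 : LT := (.node (nat_lit 3) (.node (nat_lit 1) (.node (nat_lit 0) (.leaf 1 3 [nat_lit 36, nat_lit 48, nat_lit 0, nat_lit 12, nat_lit 24, nat_lit 36, nat_lit 24, nat_lit 12, nat_lit 0, nat_lit 60, nat_lit 48])
(.leaf 5 3 [nat_lit 12, nat_lit 60, nat_lit 12]))
(.node (nat_lit 2) (.leaf 11 6 [nat_lit 36, nat_lit 0, nat_lit 36, nat_lit 60, nat_lit 36, nat_lit 0, nat_lit 36])
(.leaf 9 3 [nat_lit 24, nat_lit 60, nat_lit 24])))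
(.leaf 0 0 []))
noncomputable def wt6 : LT := (.node (nat_lit 0) (.leaf 25 10 [nat_lit 24, nat_lit 0, nat_lit 48, nat_lit 0, nat_lit 24, nat_lit 72, nat_lit 24, nat_lit 0, nat_lit 48, nat_lit 0, nat_lit 24])
(.leaf 0 0 []))
noncomputable def wt7 : LT := (.node (nat_lit 1) (.node (nat_lit 0) (.leaf 29 12 [nat_lit 36, nat_lit 0, nat_lit 12, nat_lit 0, nat_lit 48, nat_lit 0, nat_lit 12, nat_lit 24, nat_lit 36, nat_lit 24, nat_lit 12, nat_lit 0, nat_lit 48, nat_lit 12, nat_lit 0, nat_lit 12])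
(.leaf 17 6 [nat_lit 72, nat_lit 60, nat_lit 36, nat_lit 24, nat_lit 36, nat_lit 72, nat_lit 60, nat_lit 36, nat_lit 24, nat_lit 36]))
(.leaf 0 0 []))
noncomputable def sl : List (ℕ × ℕ × List ℕ × List ℕ) := [(0, nat_lit 0, [], []),
(2, nat_lit 12, [], []),
(4, nat_lit 24, [], []),
(6, nat_lit 36, [], []),
(8, nat_lit 60, [], []),
(10, nat_lit 72, [], [])]
/-- the inverse column -/
noncomputable def icol (x : ℕ) : ℕ := x
noncomputable def inv (x : ℕ) : ℕ := x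
def cols : List ℕ := [nat_lit 84, nat_lit 0, nat_lit 12, nat_lit 24, nat_lit 36, nat_lit 48, nat_lit 60, nat_lit 72]
noncomputable def cl : CL := (.cons (nat_lit 0) (nat_lit 0) (nat_lit 0) (nat_lit 0) wt0
(.cons (nat_lit 12) (nat_lit 12) (nat_lit 19) (nat_lit 1) wt1
(.cons (nat_lit 24) (nat_lit 24) (nat_lit 38) (nat_lit 2) wt2
(.cons (nat_lit 36) (nat_lit 36) (nat_lit 57) (nat_lit 3) wt3
(.cons (nat_lit 48) (nat_lit 48) (nat_lit 76) (nat_lit 4) wt4
(.cons (nat_lit 60) (nat_lit 60) (nat_lit 95) (nat_lit 5) wt5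
(.cons (nat_lit 72) (nat_lit 72) (nat_lit 114) (nat_lit 6) wt6
.nil)))))))
def rels : List (List ℕ) := [[0, 1, 2, 3, 2, 1, 0, 4, 3, 5, 4, 5],
[0, 6, 0, 6],
[1, 5, 1, 5],
[1, 6, 1, 6],
[2, 5, 2, 5],
[0, 3, 5, 3, 0, 3, 5, 3],
[0, 4, 0, 4, 0, 4, 0, 4],
[0, 1, 4, 6, 2, 0, 1, 4, 6, 2],
[2, 3, 5, 6, 3, 2, 3, 5, 6, 3],
[0, 1, 0, 2, 1, 4, 1, 0, 1, 4, 1, 2],
[0, 1, 0, 4, 1, 2, 1, 0, 1, 2, 1, 4],
[0, 1, 2, 1, 2, 0, 2, 4, 1, 4, 1, 4],
[0, 2, 6, 2, 0, 4, 0, 2, 6, 2, 0, 4],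
[0, 1, 0, 1, 3, 0, 4, 1, 4, 3, 4, 1, 4, 1],
[0, 1, 0, 3, 1, 0, 1, 4, 0, 1, 2, 3, 2, 1, 0, 4]]
def subs : List (List ℕ) := [[0],
[1],
[2],
[3],
[5],
[6]]
noncomputable def chk : ℕ → Bool := rowChk row jrow fget sl cols (nat_lit 5) (nat_lit 10) (nat_lit 4095) (nat_lit 15) (nat_lit 4096) (nat_lit 84) (nat_lit 96) (nat_lit 524287) (nat_lit 6) (nat_lit 63) (nat_lit 3) (nat_lit 7) cl (nat_lit 133) wt7
theorem p0 : allB chk 4 0 = true := by decide +kernel
theorem all_chk : AllLt chk 10 := by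
  have h := AllLt.zero chk
  have h := h.step 10 p0 (by decide +kernel)
  exact h
/-- column `x` of the final table -/
noncomputable def tab (x u : ℕ) : ℕ := ft fget (nat_lit 6) (nat_lit 63) (nat_lit 3) (nat_lit 7) (Nat.mul x (nat_lit 1)) u
theorem enum {G Ω : Type*} [Group G] [MulAction G Ω] (g : ℕ → G) (ω : Ω)
    (hinv : ∀ x, g (icol x) = (g x)⁻¹) (h1 : g 7 = 1)
    (hrels : ∀ R ∈ rels, ev g R = 1) (hsubs : ∀ S ∈ subs, ev g S • ω = ω) :
    ∃ pt : ℕ → Ω, pt 0 = ω ∧ (∀ K : Subgroup G, (∀ x, g x ∈ K) → ∀ v, ∃ k ∈ K, pt v = k • ω) ∧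
      ∀ x, x < 7 → ∀ u, u < 5 → tab x u < 5 ∧ g x • pt u = pt (tab x u) :=
  sound_scaled g ω row jrow fget sl inv icol cols (nat_lit 5) (nat_lit 10) (nat_lit 4095) (nat_lit 15) (nat_lit 4096) (nat_lit 84) (nat_lit 96) (nat_lit 524287) (nat_lit 6) (nat_lit 63) (nat_lit 3) (nat_lit 7) 4 cl (nat_lit 133) wt7 rels subs 12 (nat_lit 1) 7
    (fun _ => rfl) hinv h1 hrels hsubs
    (by decide +kernel) (by decide +kernel) all_chk
universe u in
theorem isEnum : IsEnum.{u} 7 5 rels subs tab := fun _ _ _ _ g ω => enum g ω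
end H18.H30C2W
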