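import Cfsg.Agent.Lib.Co2.VA2

/-! Package V1: `Ty.uniq`, `Ty.dich`, `Am.v1` (proved in the imported files). -/
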