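import Cfsg.Agent.Lib.Co2.Defs
import Cfsg.Agent.Lib.Co1.Tr
import Cfsg.Agent.Lib.M24Geom.Pairs

/-! The involutions of `Co2`: the classes are given by the traces. -/

set_option autoImplicit false
set_option maxRecDepth 100000

namespace H12.Co2

open Cfsg H15 H16 H74.Co1
open scoped symmDiff Pointwise

theorem UP_apply (p : GolayPt) : (vUP : GolayPt → ℤ) p = if p = pt 23 then 4 else if p = pt 0 then -4 else 0 := by
  rw [← code_UP.2]; revert p; decide +kernel

theorem eps_fix_iff {c : Finset GolayPt} (hc : c ∈ code) (v : leechLattice) :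
    eps c hc • v = v ↔ ∀ k ∈ c, (v : GolayPt → ℤ) k = 0 := by
  refine ⟨fun h k hk => ?_, fun h => Subtype.ext (funext fun k => ?_)⟩
  · have := eps_smul_apply hc v k
    rw [h, if_pos hk] at this
    omega
  · rw [eps_smul_apply]
    split_ifs with hk
    · rw [h k hk]; rfl
    · rfl

theorem eps_mem_stab {c : Finset GolayPt} (hc : c ∈ code) :
    eps c hc ∈ Stab vUP ↔ pt 0 ∉ c ∧ pt 23 ∉ c := by
  rw [mem_Stab, eps_fix_iff]
  refine ⟨fun h => ⟨fun a => ?_, fun a => ?_⟩, fun h k hk => ?_⟩
  · exact absurd (h _ a) (by rw [UP_apply]; decide)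
  · exact absurd (h _ a) (by rw [UP_apply]; decide)
  · rw [UP_apply, if_neg (fun e : k = pt 23 => h.2 (e ▸ hk)), if_neg fun e : k = pt 0 => h.1 (e ▸ hk)]

theorem perm_mem_stab {σ : M24} (h0 : (σ : Equiv.Perm GolayPt) (pt 0) = pt 0)
    (h1 : (σ : Equiv.Perm GolayPt) (pt 23) = pt 23) : permHom σ ∈ Stab vUP := by
  refine Subtype.ext (funext fun k => ?_)
  obtain ⟨k, rfl⟩ := (σ : Equiv.Perm GolayPt).surjective k
  have a : ∀ p, (σ : Equiv.Perm GolayPt) p = p → ((σ : Equiv.Perm GolayPt) k = p ↔ k = p) := fun p h => by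
    nth_rewrite 1 [← h]
    exact EmbeddingLike.apply_eq_iff_eq _
  rw [permHom_smul_apply, UP_apply, UP_apply]
  simp only [a _ h0, a _ h1]

/-- a vector of shape `(±4, ±4)` is moved to `vUP` by a monomial element -/
theorem v44_to_UP {v : leechLattice} {i j : GolayPt} (hij : i ≠ j) {s t : ℤ} (hs : s = 1 ∨ s = -1)
    (ht : t = 1 ∨ t = -1) (e : (v : GolayPt → ℤ) = v44 i j s t) : ∃ m ∈ monoGroup, m • v = vUP := by
  classical
  obtain ⟨σ, hσ, h1, h2⟩ := M24_trans2 hij (show (none : GolayPt) ≠ some 0 by decide)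
  obtain ⟨c, hc, h3⟩ := exists_code_inter_eq_of_card_lt {none, some 0}
    (({none, some 0} : Finset GolayPt).filter fun p => if p = none then s = -1 else t = 1)
    (Finset.filter_subset _ _) (by decide)
  have a1 : none ∈ c ↔ s = -1 := by
    have := Finset.ext_iff.1 h3 none
    simpa using this
  have a2 : some 0 ∈ c ↔ t = 1 := by
    have := Finset.ext_iff.1 h3 (some 0)
    simpa using this
  refine ⟨mono σ hσ c hc, mono_mem hσ hc, Subtype.ext ?_⟩
  rw [coe_mono_smul, e, signedPerm_v44, h1, h2, coe_UP]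
  simp only [a1, a2]
  rcases hs with rfl | rfl <;> rcases ht with rfl | rfl <;> norm_num

/-- a non-monomial element for a sextet refining the trio -/
def xiP : ℕ := 0xc001000100010001000100010001000100010001000100010001000100010001000100010001000100014001400140010001400100010001000100010000c00100010000c00100010001000100010001000100010000c00100010001000100010001000140010000c00100010001000100010001000100010001000100010000c000c00100010001000100010001000100010001000140010001000100010000c0010001000100010000c000c00100010001000100010001000100010001000100010000c0010001400100010001000100010001000100010001000100010000c000c00100010001000100010001000100010001000100010001400100010001000100010000c000c00100010000c00100010001000100010001000100010001000100010001000100010001400100010000c00100010001000100010001000100010000c0010000c0010001000100010000c00100010001000100010001400100010000c00100010001000100010001000100010000c0010001000100010001000100010000c001000100010001000140010001000100010000c000c001000100010001000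100010001000100010001000100010001000100010000c00100010001400100010001000100010001000100010000c0010000c0010001000100010000c00100010001000100010000c00100010001400100010001000100010001000100010000c001000100010001000100010001000100010000c001000100010001000100014000c00100010000c0010001000100010001000100010001000100010001000100010000c00100010001000100010000c001400100010000c00100010001000100010001000100010001000100010000c0010001000100010000c00100010001000100014000c001000100010001000100010001000100010001000100010000c0010001000100010000c0010001000100010000c001400100010001000100010001000100010001000100010001000100010000c00100010001000100010000c000c0010001000140010001000100010001000100010001000100010000c0010000c001000100010001000100010001000100010001000100014000c00100010001000100010001000100010000c0010000c00100010001000100010001000100010001000100010000c0014001000100010001000100010001000100010001000100010000c00100010000c0010001000100010001000100010001000140010000c0010001000100010000c00100010001000100010000c00100010000c0010001000100010001000100010001000140010001000100010001000100010001000100010000c00100010000c00100010001000100010001000100010000c00100014001000100010001400100010001000100010001000100010001000100010001000100010001000100010001000100010000c001400140014001000100010001000100010001000100010001000100010001000100010001000100010001000100014000c001400140010001000100010001000100010001000100010001000100010001000100010001000100010001000140014000c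

theorem xi_ok : okM xiP = true := by decide +kernel

theorem xi_comm {m : ℕ} (h : isCode m = true) (e : mulM xiP (epsM m) = mulM (epsM m) xiP) :
    el xiP * eps _ (ofMask_mem_of_isCode h) * (el xiP)⁻¹ = eps _ (ofMask_mem_of_isCode h) := by
  have a := (isM_el xi_ok).mul (isM_eps h)
  rw [e] at a
  rw [a.eq_el ((isM_eps h).mul (isM_el xi_ok)), mul_inv_cancel_right]

theorem oct1_mem : ofMask oct1 ∈ octads := ofMask_mem_octads (by decide +kernel)

theorem prop_aux {A B C D : Prop} (h : A ∧ B ↔ C ∧ ¬D ∨ D ∧ ¬C) :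
    (A ∧ ¬C ∨ C ∧ ¬A) ∧ B ↔ D ∧ B := by tauto

/-- a fixed vector of octad shape is moved to the shape `(±4, ±4)` -/
theorem oct_to_v44 {v : leechLattice} {c : Finset GolayPt} (hc : c ∈ code) {o s : Finset GolayPt}
    (ho : o ∈ octads) (hs : s ⊆ o) (h2 : 2 ∣ s.card) (e : (v : GolayPt → ℤ) = sgn s (rep 0 o))
    (hd : o ∩ c = ∅) (h0 : c ≠ ∅) : ∃ k : Co0, ∃ d, ∃ hd : d ∈ code, k * eps c hc * k⁻¹ = eps d hd ∧
      ((k • v : leechLattice) : GolayPt → ℤ) = v44 (pt 0) (pt 3) 1 (-1) := by
  obtain ⟨m, hm, hx, σ, hσ, e1, e2⟩ : ∃ m, ∃ _ : isCode m = true, mulM xiP (epsM m) = mulM (epsM m) xiP ∧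
      ∃ σ ∈ M24, σ • o = ofMask oct0 ∧ σ • c = ofMask m := by
    have l : c.card + 8 ≤ 24 := by
      have := Finset.card_le_univ (o ∪ c)
      rw [Finset.card_union, hd, ho.2, card_pt, Finset.card_empty] at this
      omega
    rcases card_of_mem_code hc with k | k | k | k | k
    · exact absurd (Finset.card_eq_zero.1 k) h0
    · exact ⟨oct1, isCode_oct.2.1, by decide +kernel, H96.Geo.code_pair_trans_oct ho oct0_mem hc oct1_mem.1
        (k.trans oct1_mem.2.symm) (by rw [hd, ← ofMask_land, card_ofMask]; decide +kernel)⟩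
    · have := card_inter_octad_dodecad ho (d := c) ⟨hc, k⟩
      rw [hd, Finset.card_empty] at this
      omega
    · exact ⟨8241104, by decide +kernel, by decide +kernel, H96.Geo.code_pair_trans_oct ho oct0_mem hc
        (ofMask_mem_of_isCode (by decide +kernel)) (by rw [k, card_ofMask]; decide +kernel)
        (by rw [hd, ← ofMask_land, card_ofMask]; decide +kernel)⟩
    · omega
  have s1 : σ • s ⊆ ofMask oct0 := e1 ▸ (H15.smul_subset_smul_iff σ s o).2 hs
  have s2 : ofMask 9 ⊆ ofMask oct0 := ofMask_subset_of_land (by decide +kernel)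
  have s3 : (σ • s) ∆ ofMask 9 ⊆ ofMask oct0 := fun p hp => by
    rcases Finset.mem_symmDiff.1 hp with h | h
    · exact s1 h.1
    · exact s2 h.1
  obtain ⟨d, hd', e3⟩ := exists_code_inter_eq_octad oct0_mem (ofMask oct0) ((σ • s) ∆ ofMask 9)
    Finset.Subset.rfl s3 (by rw [oct0_mem.2]; norm_num) (by
      have := H16.card_symmDiff_add (σ • s) (ofMask 9)
      rw [card_perm_smul, card_ofMask, show wt 9 = 2 by decide +kernel] at this
      rw [Finset.inter_eq_right.2 s3]
      omega)
  have a : ((mono σ hσ d hd' • v : leechLattice) : GolayPt → ℤ) = sgn (ofMask 9) (rep 0 (ofMask oct0)) := by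
    rw [coe_mono_smul, e, signedPerm_oct, e1]
    refine sgn_rep_congr (Finset.ext fun p => ?_)
    have := Finset.ext_iff.1 e3 p
    simp only [Finset.mem_inter, Finset.mem_symmDiff] at this ⊢
    exact prop_aux this
  have c1 : Code 0x120010001000100010001000120010001000120010001000100010001000100010001000120010000e00120012000e
      (mono σ hσ d hd' • v) := ⟨by norm_num, by
    rw [a]; funext p; rw [oct_apply]; revert p; decide +kernel⟩
  have c2 := code_lv (c := 0x100010001000100010001000100010001000100010001000100010001000100010001000100010000c001000100014)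
    (by decide +kernel)
  refine ⟨el xiP * mono σ hσ d hd', _, ofMask_mem_of_isCode hm, conj_trans ?_ (xi_comm hm hx), ?_⟩
  · rw [mono_eq_eps_mul]
    refine conj_trans (conj_eps ⟨σ, hσ⟩ hc) ?_
    rw [eps_comm, mul_inv_cancel_right]
    exact eps_congr e2
  · rw [mul_smul, el_smul xi_ok c1 c2 (by rw [c1.norm]; decide +kernel) (by decide +kernel), ← c2.2]
    funext p; rw [v44_apply]; revert p; decide +kernel

theorem conj_sq {G : Type*} [Group G] {g x : G} (h : x * x = 1) : g * x * g⁻¹ * (g * x * g⁻¹) = 1 := by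
  rw [show g * x * g⁻¹ * (g * x * g⁻¹) = g * (x * x) * g⁻¹ by group, h]; group

/-- an involution of `Co2` is conjugate to a sign change -/
theorem cls_eps {x : Co0} (hx : x ∈ Stab vUP) (h2 : x * x = 1) :
    ∃ g ∈ Stab vUP, ∃ c, ∃ hc : c ∈ code, g * x * g⁻¹ = eps c hc := by
  rcases classes_co0 (Or.inl h2) with ⟨g, c, hc, e⟩ | ⟨g, e⟩
  swap
  · exfalso
    have b := conj_sq (g := g) h2
    refine negCo0_ne_one ?_
    rcases e with e | e <;> rw [e] at b
    · rw [← eB_sq, b]
    · rw [← eB_sq, ← neg_mul_sq, b]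
  by_cases h0 : c = ∅
  · subst h0
    rw [eps_empty, mul_inv_eq_one, mul_eq_left] at e
    exact ⟨1, one_mem _, _, empty_mem_code, by rw [e, eps_empty]; group⟩
  have f : eps c hc • g • vUP = g • vUP := by rw [← e, mul_smul, mul_smul, inv_smul_smul, hx]
  rw [eps_fix_iff] at f
  have fin : ∀ (k : Co0) d (hd : d ∈ code), k * x * k⁻¹ = eps d hd → ∀ i j, i ≠ j → ∀ s t : ℤ,
      (s = 1 ∨ s = -1) → (t = 1 ∨ t = -1) → ((k • vUP : leechLattice) : GolayPt → ℤ) = v44 i j s t →
      ∃ g ∈ Stab vUP, ∃ c, ∃ hc : c ∈ code, g * x * g⁻¹ = eps c hc := by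
    intro k d hd e i j hij s t hs ht e'
    obtain ⟨m, hm, a⟩ := v44_to_UP hij hs ht e'
    obtain ⟨σ, b⟩ := mono_conj_eps hm
    exact ⟨m * k, by rw [mem_Stab, mul_smul, a], _, _, conj_trans e (b d hd)⟩
  rcases min_shape (g • vUP).2 ((sqNorm_co0 g vUP).trans norm_UP) with
    ⟨i, j, hij, s, t, hs, ht, e1⟩ | ⟨o, ho, s, hs, h2, e1⟩ | ⟨d, -, j, e1⟩
  · exact fin g c hc e i j hij s t hs ht e1
  · obtain ⟨k, d, hd, a, b⟩ := oct_to_v44 hc ho hs h2 e1 (Finset.eq_empty_of_forall_notMem fun p hp => by
      have := f p (Finset.mem_inter.1 hp).2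
      rw [e1, oct_apply, if_pos (Finset.mem_inter.1 hp).1] at this
      split_ifs at this <;> omega) h0
    exact fin (k * g) d hd (conj_trans e a) (pt 0) (pt 3) (by decide) 1 (-1) (Or.inl rfl) (Or.inr rfl)
      (by rw [mul_smul, b])
  · obtain ⟨p, hp⟩ := Finset.nonempty_iff_ne_empty.2 h0
    have := f p hp
    rw [e1, odd_apply] at this
    split_ifs at this <;> omega

/-- an element of order 15 fixing `oct1` and `∞` -/
def q15 : ℕ := 961112644302198504444950772788480385

theorem oct_out2 {c : Finset GolayPt} (hc : c ∈ octads) (h0 : pt 0 ∉ c) (h1 : pt 23 ∉ c) :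
    ∃ σ ∈ M24, σ • c = ofMask oct1 ∧ σ (pt 0) = pt 0 ∧ σ (pt 23) = pt 23 := by
  obtain ⟨σ, hσ, e1, -, e2⟩ := M24_trans_octad_flag_out hc oct1_mem (k := 0) (by norm_num) ![] ![]
    (Function.injective_of_subsingleton _) (Function.injective_of_subsingleton _)
    (fun i => i.elim0) (fun i => i.elim0) h1 (q := pt 23) (by decide +kernel)
  have key : ∀ p : GolayPt, p ∉ ofMask oct1 → p ≠ pt 23 → ∃ n < 15, inM24 (powP q15 n) = true ∧
      imgM (powP q15 n) oct1 = oct1 ∧ ap (powP q15 n) (idx p) = 0 ∧ ap (powP q15 n) 23 = 23 := by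
    decide +kernel
  obtain ⟨n, -, k1, k2, k3, k4⟩ := key (σ (pt 0)) (fun h => h0 ((apply_mem_of_smul_eq e1).1 h))
    fun h => absurd (σ.injective (h.trans e2.symm)) (by decide)
  have ok := okP_of_inM24 k1
  refine ⟨permOf (powP q15 n) * σ, mul_mem (permOf_mem_M24 k1) hσ, ?_, ?_, ?_⟩
  · rw [mul_smul, e1, permOf_smul ok, k2]
  · rw [Equiv.Perm.mul_apply, permOf_apply ok, k3]
  · rw [Equiv.Perm.mul_apply, e2, permOf_pt ok (by norm_num), k4]

theorem eps_conj_of_card {c d : Finset GolayPt} (hc : c ∈ code) (hd : d ∈ code) (a : eps c hc ∈ Stab vUP)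
    (b : eps d hd ∈ Stab vUP) (e : c.card = d.card) : ∃ g ∈ Stab vUP, g * eps c hc * g⁻¹ = eps d hd := by
  rw [eps_mem_stab] at a b
  have ne : pt 0 ≠ pt 23 := by decide
  suffices ∃ σ ∈ M24, σ • c = d ∧ σ (pt 0) = pt 0 ∧ σ (pt 23) = pt 23 by
    obtain ⟨σ, hσ, e1, e2, e3⟩ := this
    exact ⟨permHom ⟨σ, hσ⟩, perm_mem_stab e2 e3, by rw [conj_eps]; exact eps_congr e1⟩
  have cc : ∀ {σ : Equiv.Perm GolayPt}, σ • cᶜ = dᶜ → σ • c = d := fun h =>
    compl_injective (by rw [← h, H15.smul_compl])
  rcases card_of_mem_code hc with k | k | k | k | k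
  · rw [Finset.card_eq_zero.1 k, Finset.card_eq_zero.1 (e.symm.trans k)]
    exact ⟨1, one_mem _, rfl, rfl, rfl⟩
  · obtain ⟨σ, hσ, a1, a2, a3⟩ := oct_out2 ⟨hc, k⟩ a.1 a.2
    obtain ⟨τ, hτ, b1, b2, b3⟩ := oct_out2 ⟨hd, e ▸ k⟩ b.1 b.2
    refine ⟨τ⁻¹ * σ, mul_mem (inv_mem hτ) hσ, by rw [mul_smul, a1, ← b1, inv_smul_smul], ?_, ?_⟩
    · rw [Equiv.Perm.mul_apply, a2, Equiv.Perm.inv_eq_iff_eq, b2]
    · rw [Equiv.Perm.mul_apply, a3, Equiv.Perm.inv_eq_iff_eq, b3]
  · obtain ⟨σ, hσ, a1, a2⟩ := M24_trans_dodecad_pt2 (compl_mem_dodecads (d := c) ⟨hc, k⟩)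
      (compl_mem_dodecads (d := d) ⟨hd, e ▸ k⟩) (Finset.mem_compl.2 a.1) (Finset.mem_compl.2 a.2)
      (Finset.mem_compl.2 b.1) (Finset.mem_compl.2 b.2) ne ne
    exact ⟨σ, hσ, cc a1, a2⟩
  · obtain ⟨σ, hσ, a1, a2⟩ := M24_trans_octad_flag_le (o := cᶜ) (o' := dᶜ)
      ⟨compl_mem_code hc, by rw [Finset.card_compl, card_pt, k]⟩
      ⟨compl_mem_code hd, by rw [Finset.card_compl, card_pt, ← e, k]⟩ (k := 2) (by norm_num)
      ![pt 0, pt 23] ![pt 0, pt 23] (injective_vec2 ne) (injective_vec2 ne)
      (Fin.forall_fin_two.2 ⟨Finset.mem_compl.2 a.1, Finset.mem_compl.2 a.2⟩)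
      (Fin.forall_fin_two.2 ⟨Finset.mem_compl.2 b.1, Finset.mem_compl.2 b.2⟩)
    exact ⟨σ, hσ, cc a1, a2 0, a2 1⟩
  · exact absurd (Finset.eq_univ_of_card c (k.trans card_pt.symm) ▸ Finset.mem_univ _) a.1

/-- involutions of `Co2` with the same trace are conjugate -/
theorem conj_of_tr {x y : Stab vUP} (hx : x * x = 1) (hy : y * y = 1) (e : tr x = tr y) : IsConj x y := by
  obtain ⟨g, hg, c, hc, a⟩ := cls_eps x.2 (congrArg Subtype.val hx)
  obtain ⟨h, hh, d, hd, b⟩ := cls_eps y.2 (congrArg Subtype.val hy)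
  obtain ⟨k, hk, f⟩ := eps_conj_of_card hc hd (a ▸ mul_mem (mul_mem hg x.2) (inv_mem hg))
    (b ▸ mul_mem (mul_mem hh y.2) (inv_mem hh)) (by
      rw [← tr_conj g, ← tr_conj h y, a, b, tr_eps, tr_eps] at e
      omega)
  refine isConj_iff.2 ⟨⟨h⁻¹ * (k * g), mul_mem (inv_mem hh) (mul_mem hk hg)⟩, Subtype.ext ?_⟩
  exact conj_trans (conj_trans a f) (by rw [← b]; group)

theorem inv_cls {x : Stab vUP} (hx : x * x = 1) : x = 1 ∨ tr x = 64 ∨ tr x = 0 ∨ tr x = -64 := by
  obtain ⟨g, hg, c, hc, a⟩ := cls_eps x.2 (congrArg Subtype.val hx)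
  have b := (eps_mem_stab hc).1 (a ▸ mul_mem (mul_mem hg x.2) (inv_mem hg))
  rw [← tr_conj g, a, tr_eps]
  rcases card_of_mem_code hc with k | k | k | k | k
  · obtain rfl := Finset.card_eq_zero.1 k
    rw [eps_empty, mul_inv_eq_one, mul_eq_left] at a
    exact Or.inl (Subtype.ext a)
  · omega
  · omega
  · omega
  · exact absurd (Finset.eq_univ_of_card c (k.trans card_pt.symm) ▸ Finset.mem_univ _) b.1

theorem tr_of_isConj {x y : Stab vUP} (h : IsConj x y) : tr (x : Co0) = tr (y : Co0) := by
  obtain ⟨g, rfl⟩ := isConj_iff.1 h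
  exact (tr_conj g x).symm

theorem eqns_Co2FinCls : True := by
  have := @xiP.eq_1
  have := @q15.eq_1
  trivial

end H12.Co2
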