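import Cfsg.Agent.Lib.Co2.Defs
import Cfsg.Agent.Lib.Co2.VBC
import Cfsg.Agent.Lib.Co1.Tr
import Cfsg.Agent.Lib.Co1T.Base

/-! The subgroup `2^10` of the second Conway group in coordinates. -/

set_option autoImplicit false
set_option maxRecDepth 100000
set_option exponentiation.threshold 700

namespace H12.Co2.VB

open Cfsg H15 H16 H74.Co1 Subgroup
open scoped symmDiff Pointwise

/-- the sign change with index `u` -/
noncomputable def ee (u : ℕ) : Spor.Co1 := mk1 (epsm (aw u))
/-- the permutation with index `j` -/
noncomputable def S (j : ℕ) : Spor.Co1 := mk1 (permm (gC j))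

theorem ee_eq {u : ℕ} (hu : u < 1024) : ee u = mk1 (eps (W u) (W_mem hu)) := by
  rw [ee, epsm_eq (isCode_aw hu)]; rfl

theorem ee_mul {u v : ℕ} (hu : u < 1024) (hv : v < 1024) : ee u * ee v = ee (u ^^^ v) := by
  rw [ee_eq hu, ee_eq hv, ee_eq (xlt hu hv), ← map_mul, eps_mul_eps]
  exact congrArg mk1 (eps_congr (W_xor hu hv).symm)

theorem ee_zero : ee 0 = 1 := mul_eq_left.1 (ee_mul (u := 0) (v := 0) (by norm_num) (by norm_num))

theorem ee_inv {u : ℕ} (hu : u < 1024) : (ee u)⁻¹ = ee u :=
  inv_eq_of_mul_eq_one_right (by rw [ee_mul hu hu, Nat.xor_self, ee_zero])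

theorem ee_comm {u v : ℕ} (hu : u < 1024) (hv : v < 1024) : ee u * ee v = ee v * ee u := by
  rw [ee_mul hu hv, ee_mul hv hu, Nat.xor_comm]

theorem two_UP : (2 : ℤ) • vUP = e8 (pt 23) - e8 (pt 0) := by
  refine Subtype.ext (funext fun p => ?_)
  show 2 * Spor.vecU' p = (Pi.single (pt 23) 8 : GolayPt → ℤ) p - (Pi.single (pt 0) 8 : GolayPt → ℤ) p
  revert p; decide +kernel

theorem smul_UP {g : Co0} {w : leechLattice} (h : g • e8 (pt 23) - g • e8 (pt 0) = (2 : ℤ) • w) :
    g • vUP = w := by
  rw [← smul_sub, ← two_UP, co0_smul_zsmul] at h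
  exact smul_right_injective _ (by norm_num) h

theorem eps_W_mem {u : ℕ} (hu : u < 1024) : eps (W u) (W_mem hu) ∈ Stab vUP :=
  smul_UP (by rw [eps_smul_e8, eps_smul_e8, if_neg (inf_not_mem hu), if_neg (zero_not_mem hu), two_UP])

theorem ee_inj {u v : ℕ} (hu : u < 1024) (hv : v < 1024) (e : ee u = ee v) : u = v := by
  rw [ee_eq hu, ee_eq hv] at e
  exact W_inj hu hv (eps_inj (stab_inj (eps_W_mem hu) (eps_W_mem hv) e))

theorem ee_mem {u : ℕ} (hu : u < 1024) : ee u ∈ A0 := by
  rw [ee_eq hu]
  exact ⟨mem_map_of_mem _ (eps_mem_E0 _), mem_K1.2 (Or.inl (eps_W_mem hu))⟩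

theorem exists_ee {a : Spor.Co1} (h : a ∈ A0) : ∃ u < 1024, a = ee u := by
  obtain ⟨⟨_, ⟨c, hc, rfl⟩, rfl⟩, k⟩ := h
  have v0 : (vUP : GolayPt → ℤ) (pt 0) = -4 := by decide +kernel
  have v1 : (vUP : GolayPt → ℤ) (pt 23) = 4 := by decide +kernel
  have : pt 0 ∈ c ↔ pt 23 ∈ c := by
    have a := eps_smul_apply hc vUP (pt 0)
    have b := eps_smul_apply hc vUP (pt 23)
    rcases mem_K1.1 k with e | e <;> rw [e] at a b <;> by_cases h0 : pt 0 ∈ c <;> by_cases h1 : pt 23 ∈ c <;>
      simp [h0, h1, v0, v1] at a b ⊢
  by_cases h0 : pt 0 ∈ c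
  · obtain ⟨u, hu, e⟩ := exists_W (compl_mem_code hc) (by simpa using h0) (by simpa using this.1 h0)
    exact ⟨u, hu, by rw [ee_eq hu, ← mk1_eps_compl hc]; exact congrArg mk1 (eps_congr e.symm)⟩
  · obtain ⟨u, hu, rfl⟩ := exists_W hc h0 (mt this.2 h0)
    exact ⟨u, hu, (ee_eq hu).symm⟩

theorem epsm_compl {m u : ℕ} (hm : isCode m = true) (hu : u < 1024) (e : aw u = Nat.xor m 16777215) :
    mk1 (epsm m) = ee u := by
  rw [epsm_eq hm, ee_eq hu, ← mk1_eps_compl]
  exact congrArg mk1 (eps_congr (by rw [W, e, ofMask_compl]))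

theorem z0_ee : z0 = ee 1000 := epsm_compl isCode_oct.1 (by norm_num) (by decide +kernel)
theorem t0_ee : t0 = ee 639 := epsm_compl (by decide +kernel) (by norm_num) (by decide +kernel)

theorem ee_C0 {u : ℕ} (hu : u < 1024) : ee u ∈ C0 :=
  ⟨mem_H0.2 (z0_ee ▸ ee_comm hu (by norm_num)), (ee_mem hu).2⟩

theorem A0_le : A0 ≤ C0 := fun _ h => by
  obtain ⟨u, hu, rfl⟩ := exists_ee h
  exact ee_C0 hu

theorem perm_swap {σ : M24} (h : (σ : Equiv.Perm GolayPt) (pt 0) = pt 23 ∧
    (σ : Equiv.Perm GolayPt) (pt 23) = pt 0) : permHom σ • vUP = -vUP :=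
  smul_UP (by rw [permHom_smul_e8, permHom_smul_e8, h.1, h.2, smul_neg, two_UP, neg_sub])

theorem perm_K1 {σ : M24} (h : ((σ : Equiv.Perm GolayPt) (pt 0) = pt 0 ∧ (σ : Equiv.Perm GolayPt) (pt 23) = pt 23) ∨
    ((σ : Equiv.Perm GolayPt) (pt 0) = pt 23 ∧ (σ : Equiv.Perm GolayPt) (pt 23) = pt 0)) :
    mk1 (permHom σ) ∈ K1 :=
  mem_K1.2 (h.imp (fun h => smul_UP (by rw [permHom_smul_e8, permHom_smul_e8, h.1, h.2, two_UP])) perm_swap)

theorem perm_ee (σ : M24) {u v : ℕ} (hu : u < 1024) (hv : v < 1024)
    (e : (σ : Equiv.Perm GolayPt) • W u = W v) : mk1 (permHom σ) * ee u * (mk1 (permHom σ))⁻¹ = ee v := by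
  rw [ee_eq hu, ee_eq hv, ← map_inv, ← map_mul, ← map_mul, conj_eps]
  exact congrArg mk1 (eps_congr e)

theorem S_eq {j : ℕ} (hj : j < 7) : S j = mk1 (permHom ⟨permOf (gC j), permOf_mem_M24 (act_spec hj).1⟩) := by
  rw [S, permm_eq (act_spec hj).1]

theorem S_conj {j u : ℕ} (hj : j < 7) (hu : u < 1024) : S j * ee u * (S j)⁻¹ = ee (act j u) := by
  rw [S_eq hj]
  exact perm_ee _ hu (act_lt _ _) (W_act hj hu).symm

theorem S_ee {j u : ℕ} (hj : j < 7) (hu : u < 1024) : S j * ee u = ee (act j u) * S j :=
  mul_inv_eq_iff_eq_mul.1 (S_conj hj hu)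

theorem S_K1 {j : ℕ} (hj : j < 7) : S j ∈ K1 := by
  have k : ∀ j < 7, (ap (gC j) 0 = 0 ∧ ap (gC j) 23 = 23) ∨ (ap (gC j) 0 = 23 ∧ ap (gC j) 23 = 0) := by
    decide +kernel
  have o := okP_of_inM24 (act_spec hj).1
  rw [S_eq hj]
  refine perm_K1 ((k j hj).imp (fun a => ?_) fun a => ?_) <;>
    simp only [permOf_pt o (show 0 < 24 by norm_num), permOf_pt o (show 23 < 24 by norm_num), a.1, a.2,
      and_self]

theorem act_z : ∀ j < 6, act j 1000 = 1000 := by decide +kernel
theorem act_t : ∀ j < 5, act j 639 = 639 := by decide +kernel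

theorem S_C0 {j : ℕ} (hj : j < 6) : S j ∈ C0 :=
  ⟨mem_H0.2 (by rw [z0_ee, S_ee (by omega) (by norm_num), act_z j hj]), S_K1 (by omega)⟩

theorem S_t0 {j : ℕ} (hj : j < 5) : S j * t0 = t0 * S j := by
  rw [t0_ee, S_ee (by omega) (by norm_num), act_t j hj]

theorem S_six : S 6 = g0 := rfl

theorem g0_z0 : g0 * z0 * g0⁻¹ = t0 := by
  rw [z0_ee, t0_ee, ← S_six, S_conj (by norm_num) (by norm_num)]
  exact congrArg ee (by decide +kernel)

theorem g0_t0 : g0 * t0 * g0⁻¹ = z0 := by
  rw [z0_ee, t0_ee, ← S_six, S_conj (by norm_num) (by norm_num)]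
  exact congrArg ee (by decide +kernel)

theorem S_norm {j : ℕ} (hj : j < 7) {a : Spor.Co1} (h : a ∈ A0) : S j * a * (S j)⁻¹ ∈ A0 := by
  obtain ⟨u, hu, rfl⟩ := exists_ee h
  rw [S_conj hj hu]
  exact ee_mem (act_lt _ _)

/-- `2^10` is self-centralising -/
theorem cent_A0 {x : Spor.Co1} (hx : x ∈ K1) (h : ∀ a ∈ A0, x * a = a * x) : x ∈ A0 := by
  have h3 : (3 : ℕ) < 1024 := by norm_num
  have hD : W 3 ∈ dodecads := ⟨W_mem h3, by rw [W, card_ofMask]; decide +kernel⟩
  have k3 := h _ (ee_mem h3)
  rw [ee_eq h3] at k3
  obtain ⟨g, hg, rfl⟩ := cent_dodecad_le hD (mem_centralizer_singleton_iff.2 k3)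
  obtain ⟨d, hd, σ, rfl⟩ := exists_eps_perm hg
  have h1 : ∀ u < 1024, w16 u = true → (σ : Equiv.Perm GolayPt) • W u = W u := fun u hu k => by
    have := h _ (ee_mem hu)
    rw [ee_eq hu] at this
    refine (H30.T.smul_of_comm _ hd this).resolve_right fun e => ?_
    have := congrArg Finset.card e
    rw [card_smul, Finset.card_compl, card_golayPt, (card_W u).2 k] at this
    omega
  have h2 : (σ : Equiv.Perm GolayPt) = 1 := propOk_sound σ.2 [(8391797, 5279), (8391797, 8394986)] 8388606
    (by decide +kernel) fun p hp => by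
      obtain ⟨i, hi, rfl⟩ : ∃ i < 22, p = pt (i + 1) := by revert p; decide +kernel
      rw [← pt_idx ((σ : Equiv.Perm GolayPt) _), ← sep hi (idx_lt _) fun u hu k => ?_]
      rw [Bool.eq_iff_iff, ← pt_mem_W (by omega), ← pt_mem_W (idx_lt _), pt_idx,
        apply_mem_of_smul_eq (h1 u hu k)]
  obtain rfl : σ = 1 := Subtype.ext h2
  refine ⟨mem_map_of_mem _ ?_, hx⟩
  rw [map_one, mul_one]
  exact eps_mem_E0 _

/-- the code of a word -/
def wP (w : List ℕ) : ℕ := List.rec idP (fun j _ ih => mulP (gC j) ih) w

theorem wP_cons (j : ℕ) (w : List ℕ) : wP (j :: w) = mulP (gC j) (wP w) := rfl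

theorem wd_S {w : List ℕ} (h : ∀ j ∈ w, j < 7) :
    okP (wP w) = true ∧ ∃ σ : M24, wd S w = mk1 (permHom σ) ∧ permOf (wP w) = σ := by
  induction w with
  | nil => exact ⟨okP_idP, 1, by rw [wd_nil, map_one, map_one], permOf_idP⟩
  | cons j w ih =>
    obtain ⟨a, σ, b, c⟩ := ih fun i hi => h i (List.mem_cons_of_mem _ hi)
    have hj := h j List.mem_cons_self
    have o := okP_of_inM24 (act_spec hj).1
    rw [wP_cons]
    exact ⟨okP_mulP o a, _, by rw [wd_cons, b, S_eq hj, ← map_mul, ← map_mul], by
      rw [permOf_mulP o a, c]; rfl⟩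

theorem wd_S_eq {v w : List ℕ} (h : (∀ j ∈ v, j < 7) ∧ (∀ j ∈ w, j < 7) ∧ wP v = wP w) :
    wd S v = wd S w := by
  obtain ⟨-, σ, a, b⟩ := wd_S h.1
  obtain ⟨-, τ, c, d⟩ := wd_S h.2.1
  rw [a, c, show σ = τ from Subtype.ext (by rw [← b, ← d, h.2.2])]

theorem g0_inv : g0⁻¹ = g0 := inv_eq_of_mul_eq_one_right (by
  simpa [wd, S_six] using wd_S_eq (v := [6, 6]) (w := []) (by decide +kernel))

theorem S0_sq : S 0 * S 0 = 1 := by
  simpa [wd] using wd_S_eq (v := [0, 0]) (w := []) (by decide +kernel)

theorem g0_S0 : g0 * S 0 * g0⁻¹ = wd S [3, 4, 2, 3, 0] := by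
  rw [g0_inv]
  simpa [wd, S_six, mul_assoc] using wd_S_eq (v := [6, 0, 6]) (w := [3, 4, 2, 3, 0]) (by decide +kernel)

/-- the lift fixing the vector has trace `-8` -/
def T (x : Spor.Co1) : Prop := ∃ g ∈ Stab vUP, mk1 g = x ∧ tr g = -64

theorem T.conj {x k : Spor.Co1} (h : T x) (hk : k ∈ K1) : T (k * x * k⁻¹) := by
  obtain ⟨g, hg, rfl, e⟩ := h
  obtain ⟨k, a, rfl⟩ := exists_lift hk
  exact ⟨k * g * k⁻¹, mul_mem (mul_mem a hg) (inv_mem a), by simp, by rw [tr_conj, e]⟩

theorem T_ee {u : ℕ} (hu : u < 1024) (h : w16 u = true) : T (ee u) :=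
  ⟨_, eps_W_mem hu, (ee_eq hu).symm, by rw [tr_eps, (card_W u).2 h]; norm_num⟩

theorem T.disj {d : ℕ} (hd : d < 1024) (h : T (ee d * S 0)) : Nat.land (aw d) F0 = 0 := by
  obtain ⟨g, hg, e, t⟩ := h
  have h0 : (0 : ℕ) < 7 := by norm_num
  have o := okP_of_inM24 (act_spec h0).1
  have a : negCo0 * (eps (W d) (W_mem hd) * permHom ⟨permOf (gC 0), permOf_mem_M24 (act_spec h0).1⟩) ∈
      Stab vUP := by
    rw [mem_Stab, mul_smul, mul_smul, perm_swap, smul_neg, eps_W_mem hd, negCo0_smul, neg_neg]
    simp only [permOf_pt o (show 0 < 24 by norm_num), permOf_pt o (show 23 < 24 by norm_num)]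
    decide +kernel
  rw [ee_eq hd, S_eq h0, ← map_mul, ← mk1_neg (eps _ _ * _)] at e
  have f : H96.Geo.Fix (permOf (gC 0)) = ofMask F0 := by
    ext p
    rw [H96.Geo.mem_Fix, permOf_apply o]
    revert p; decide +kernel
  rw [stab_inj hg a e, tr_neg, tr_eps_perm, f, W, ← ofMask_land, card_ofMask F0,
    show wt F0 = 8 by decide +kernel] at t
  refine ofMask_inj (lt_of_le_of_lt Nat.and_le_left (isCode_lt (isCode_aw hd))) (by norm_num) ?_
  rw [ofMask_zero, ← Finset.card_eq_zero]
  omega

/-- conjugating elements -/
def c1P : ℕ := 0x1400100010001000100010001000100010001000100010001000100010001000100010001000100010000c000c000c0010001400100010001000100010000c00100010000c00100010001000100010001000100010000c00100010001000100010001000140010000c00100010001000100010001000100010001000100010000c000c00100010001000100010001000100010001000140010001000100010000c0010001000100010000c000c0010001000100010001000100010001000100010001000140010000c00100010001000100010001000100010001000100010001400140010001000100010001000100010001000100010001000140010001000100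0100010000c000c00100010000c00100010001000100010001000100010001000100010001000100010001400100010000c00100010001000100010001000100010000c0010000c0010001000100010000c00100010001000100010001400100010000c00100010001000100010001000100010000c001000100010001000100010001000140010001000100010000c001000100010001000140014001000100010001000100010001000100010001000100010001000100010001400100010000c001000100010001000100010001000100014001000140010001000100010000c00100010001000100010000c00100010001400100010001000100010001000100010000c001000100010001000100010001000100010001400100010001000100010000c00140010001000140010001000100010001000100010001000100010001000100010000c00100010001000100010000c001400100010000c00100010001000100010001000100010001000100010000c0010001000100010000c00100010001000100014000c001000100010001000100010001000100010001000100010000c0010001000100010000c0010001000100010000c001400100010001000100010001000100010001000100010001000100010000c00100010001000100010000c000c0010001000140010001000100010001000100010001000100010000c0010000c0010001000100010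00100010001000100010001000100014000c00100010001000100010001000100010000c0010000c00100010001000100010001000100010001000100010000c0014001000100010001000100010001000100010001000100010000c00100010000c0010001000100010001000100010001000140010000c0010001000100010001400100010001000100010001400100010001400100010001000100010001000100010000c0010001000100010001000100010001000100010000c00100010000c00100010001000100010001000100010000c00100014001000100010000c001000100010001000100010001000100010001000100010001000100010001000100010001000100014000c000c0014001000100010001000100010001000100010001000100010001000100010001000100010001000100014000c0014000c00100010001000100010001000100010001000100010001000100010001000100010001000100010000c000c0014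
/-- conjugating elements -/
def c2P : ℕ := 0x1400100010001000100010001000100010001000100010001000100010001000100010001000100010000c000c000c0010000c00100010001000100010001400100010001400100010001000100010001000100010001400100010001000100010001000140010000c00100010001000100010001000100010001000100010000c000c00100010001000100010001000100010001000140010001000100010000c0010001000100010000c000c00100010001000100010001000100010001000100010000c0010001400100010001000100010001000100010001000100010000c000c00100010001000100010001000100010001000100010001400100010001000100010000c000c00100010000c00100010001000100010001000100010001000100010001000100010001400100010000c00100010001000100010001000100010000c0010000c0010001000100010001400100010001000100010000c0010001000140010001000100010001000100010001000140010001000100010001000100010000c001000100010001000140010001000100010000c000c001000100010001000100010001000100010001000100010001000100010000c00100010001400100010001000100010001000100010000c0010000c0010001000100010001400100010001000100010001400100010000c0010001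00010001000100010001000100014001000100010001000100010001000100010000c001000100010001000100014000c00100010000c0010001000100010001000100010001000100010001000100010000c00100010001000100010000c001400100010000c00100010001000100010001000100010001000100010000c0010001000100010000c00100010001000100014000c001000100010001000100010001000100010001000100010000c0010001000100010000c0010001000100010000c001400100010001000100010001000100010001000100010001000100010000c00100010001000100010000c000c0010001000140010001000100010001000100010001000100010000c0010000c001000100010001000100010001000100010001000100014000c00100010001000100010001000100010000c0010000c00100010001000100010001000100010001000100010000c0014001000100010001000100010001000100010001000100010000c00100010000c0010001000100010001000100010001000140010000c0010001000100010001400100010001000100010001400100010001400100010001000100010001000100010000c0010001000100010001000100010001000100010000c00100010000c00100010001000100010001000100010000c00100014001000100010000c001000100010001000100010001000100010001000100010001000100010001000100010001000100014000c000c000c00100010001000100010001000100010001000100010001000100010001000100010001000100010000c0014000c000c00100010001000100010001000100010001000100010001000100010001000100010001000100010000c000c0014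

theorem eq_of_code {P Q : ℕ} {g h : Co0} (a : IsM P g) (b : IsM Q h) (e : P = Q) : mk1 g = mk1 h := by
  subst e
  rw [a.eq_el b]

theorem el_C0 {P : ℕ} (h : okM P = true ∧ app (matR P) UPC = UPC ∧
    mulM P (epsM oct0) = mulM (epsM oct0) P) : mk1 (el P) ∈ C0 := by
  refine ⟨mem_H0.2 ?_, mem_K1.2 (Or.inl (el_smul h.1 code_UP code_UP (by rw [norm_UP]; norm_num) h.2.1))⟩
  rw [z0, ← map_mul, ← map_mul]
  exact eq_of_code ((isM_el h.1).mul (isM_epsm isCode_oct.1)) ((isM_epsm isCode_oct.1).mul (isM_el h.1)) h.2.2

theorem cert1 : ∃ c ∈ C0, c * S 0 * c⁻¹ = ee 511 := by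
  have o : okM c1P = true := by decide +kernel
  have m : isCode 9776129 = true := by decide +kernel
  refine ⟨_, el_C0 ⟨o, by decide +kernel, by decide +kernel⟩, ?_⟩
  rw [← epsm_compl m (by norm_num) (by decide +kernel), mul_inv_eq_iff_eq_mul, S, ← map_mul, ← map_mul]
  exact eq_of_code ((isM_el o).mul (isM_permm (act_spec (j := 0) (by norm_num)).1))
    ((isM_epsm m).mul (isM_el o)) (by decide +kernel)

theorem cert2 : ∃ c ∈ C0, c * (S 0 * t0) * c⁻¹ = ee 523 := by
  have o : okM c2P = true := by decide +kernel
  have m : isCode tM = true := by decide +kernel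
  refine ⟨_, el_C0 ⟨o, by decide +kernel, by decide +kernel⟩, ?_⟩
  rw [mul_inv_eq_iff_eq_mul, S, t0, ee, ← map_mul, ← map_mul, ← map_mul]
  exact eq_of_code ((isM_el o).mul ((isM_permm (act_spec (j := 0) (by norm_num)).1).mul (isM_epsm m)))
    ((isM_epsm (isCode_aw (by norm_num))).mul (isM_el o)) (by decide +kernel)

theorem ee8_mem : ee 8 ∈ P8.Q0 := by
  have h : (8 : ℕ) < 1024 := by norm_num
  rw [ee_eq h]
  exact mem_map_of_mem _ ((P8.mono_mem_NO _ _).2 ⟨fun _ _ => rfl, by decide +kernel⟩)

theorem inB_ee {u : ℕ} (hu : u < 1024) (h : w16 u = true) : InB (ee u) :=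
  ⟨(W u)ᶜ, ⟨compl_mem_code (W_mem hu), by rw [Finset.card_compl, card_golayPt, (card_W u).2 h]⟩,
    Finset.mem_compl.2 (zero_not_mem hu), Finset.mem_compl.2 (inf_not_mem hu), by
      rw [ee_eq hu, mk1_eps_compl]⟩

theorem eqns_VBE : True := by
  have := @ee.eq_1
  have := @S.eq_1
  have := @wP.eq_1
  have := @T.eq_1
  have := @c1P.eq_1
  have := @c2P.eq_1
  trivial

end H12.Co2.VB
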